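import Mathlib
import Cfsg.Agent.Lib.Helper1.F4Out.PartA
import Cfsg.Agent.Lib.Helper4.BNPair

set_option autoImplicit false

/-!
# F4INV farm (S2184: `²F₄(q)` and the Tits group have exactly two classes of involutions): definitions

`G1 = fixG m = twistedF4 K (2 ^ m)` (`Helper5.F4T.twisted_eq_fixG`); `P8` its `(B, N)`-pair
(`= Helper1.F4Out.bnF`: `B = (borel ⊓ G1).subgroupOf G1`, `N = (monomial ⊓ G1).subgroupOf G1`,
`S = {n_J | J ∈ orbsF4}`); `a8 = n₁ = n_{[0,3]}`, `b8 = n₂ = n_{[1,2,1,2]}`; Weyl group dihedral of order 16.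
-/

namespace Cfsg.Agent.Lib.Helper1.F4Inv

open Cfsg Cfsg.Lie Cfsg.Agent.Lib.Helper5.ChevSym Cfsg.Agent.Lib.Helper5.ChevSymP
  Cfsg.Agent.Lib.Helper5.ChevStruct Cfsg.Agent.Lib.Helper5.TwX
  Cfsg.Agent.Lib.Helper5.F4T Cfsg.Agent.Lib.Helper1.F4Out

variable {K : Type*} [Field K] [Fintype K] [CharP K 2] (m : ℕ)
  (hq : ∀ x : K, x ^ 2 ^ (2 * m + 1) = x)

/-- the `(B, N)`-pair of `²F₄(q)` -/
noncomputable def P8 : BNPair ↥(fixG (K := K) m) := bnF m hq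

include hq in
theorem n1_mem : (n1 : GL chevF4.Idx K) ∈ fixG (K := K) m :=
  (hypX_F4 m hq).hn [0, 3] (by simp [orbsF4])

include hq in
theorem n2_mem : (n2 : GL chevF4.Idx K) ∈ fixG (K := K) m :=
  (hypX_F4 m hq).hn [1, 2, 1, 2] (by simp [orbsF4])

/-- `n₁` as an element of `G1` -/
noncomputable def a8 : ↥(fixG (K := K) m) := ⟨n1, n1_mem m hq⟩

/-- `n₂` as an element of `G1` -/
noncomputable def b8 : ↥(fixG (K := K) m) := ⟨n2, n2_mem m hq⟩

theorem P8_B : (P8 m hq).B = (chevF4.borelSubgroup K ⊓ fixG m).subgroupOf (fixG m) := rfl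

theorem P8_N : (P8 m hq).N = (chevF4.monomialSubgroup K ⊓ fixG m).subgroupOf (fixG m) := rfl

theorem P8_S : (P8 m hq).S
    = {s : ↥(fixG (K := K) m) | ∃ J ∈ orbsF4, (s : GL chevF4.Idx K) = wGL chevF4 hF4 J} := rfl

end Cfsg.Agent.Lib.Helper1.F4Inv
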