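import Mathlib
import Cfsg.Agent.Lib.Helper1.F4Inv.Defs
import Cfsg.Agent.Lib.Helper6.F4InvThree
import Cfsg.Agent.Lib.Helper6.F4InvSq
import Cfsg.Agent.Lib.Helper3.F4InvTits
import Cfsg.Agent.Lib.Helper4.F4OutGen
import Cfsg.Agent.Lib.Helper2.F4OutS1
import Cfsg.Agent.Lib.Helper2.F4OutS2
import Cfsg.Agent.Lib.Helper2.F4OutS4
import Cfsg.Agent.Lib.Helper7.F4InvT2

set_option autoImplicit false

/-!
# F4INV farm (S2184): final assembly
-/

namespace Cfsg.Agent.Lib.Helper1.F4Inv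

open Cfsg Cfsg.Lie Cfsg.Agent.Lib.Helper5.ChevSym Cfsg.Agent.Lib.Helper5.ChevSymP
  Cfsg.Agent.Lib.Helper5.ChevStruct Cfsg.Agent.Lib.Helper5.TwX
  Cfsg.Agent.Lib.Helper5.F4T Cfsg.Agent.Lib.Helper1.F4Out



section part1

variable {K : Type*} [Field K] [Fintype K] [CharP K 2] (m : ℕ)
  (hq : ∀ x : K, x ^ 2 ^ (2 * m + 1) = x)

include hq in
/-- every involution of `²F₄(q)` is conjugate to `n₁` or to `n₂` -/
theorem invol_classes (t : ↥(fixG (K := K) m)) (ht : orderOf t = 2) :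
    IsConj t (a8 m hq) ∨ IsConj t (b8 m hq) := by
  rcases Cfsg.Agent.Lib.Helper6.F4Inv.h6_three_classes m hq (a8 m hq) (b8 m hq) rfl rfl t ht
    with h | h | h
  · exact Or.inl h
  · exact Or.inr h
  · left
    obtain ⟨g, hg⟩ := Cfsg.Agent.Lib.Helper7.F4Inv.fusion m hq (a8 m hq) (b8 m hq) rfl rfl
    have : IsConj (a8 m hq) ((a8 m hq * b8 m hq) ^ 4) := isConj_iff.2 ⟨g, hg⟩
    exact h.trans this.symm

include hq in
/-- two classes of involutions in `fixG m` -/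
theorem ncard_fixG :
    (ConjClasses.mk '' {g : ↥(fixG (K := K) m) | orderOf g = 2}).ncard = 2 := by
  have himg : ConjClasses.mk '' {g : ↥(fixG (K := K) m) | orderOf g = 2}
      = {ConjClasses.mk (a8 m hq), ConjClasses.mk (b8 m hq)} := by
    ext C
    constructor
    · rintro ⟨g, hg, rfl⟩
      rcases invol_classes m hq g hg with h | h
      · left
        exact ConjClasses.mk_eq_mk_iff_isConj.2 h
      · right
        rw [Set.mem_singleton_iff]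
        exact ConjClasses.mk_eq_mk_iff_isConj.2 h
    · rintro (rfl | rfl)
      · exact ⟨a8 m hq, Cfsg.Agent.Lib.Helper6.F4Inv.h6_a_order m (a8 m hq) rfl, rfl⟩
      · exact ⟨b8 m hq, Cfsg.Agent.Lib.Helper6.F4Inv.h6_b_order m (b8 m hq) rfl, rfl⟩
  rw [himg, Set.ncard_pair]
  intro h
  exact Cfsg.Agent.Lib.Helper7.F4Inv.not_conj m (a8 m hq) (b8 m hq) rfl rfl (ConjClasses.mk_eq_mk_iff_isConj.1 h)

/-- part 1 of S2184 -/
theorem ncard_twisted (hK : Fintype.card K = 2 ^ (2 * m + 1)) :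
    (ConjClasses.mk '' {g : ↥(twistedF4 K (2 ^ m)) | orderOf g = 2}).ncard = 2 := by
  have hq : ∀ x : K, x ^ 2 ^ (2 * m + 1) = x := by
    intro x
    rw [← hK]
    exact FiniteField.pow_card x
  rw [twisted_eq_fixG m hK hq]
  exact ncard_fixG m hq

end part1

/-! ## The Tits group -/

section tits

theorem hq2 : ∀ x : ZMod 2, x ^ 2 ^ (2 * 0 + 1) = x := by decide

theorem hK2 : Fintype.card (ZMod 2) = 2 ^ (2 * 0 + 1) := by simp

/-- `G = ²F₄(2)` -/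
abbrev G2 : Type := ↥(fixG (K := ZMod 2) 0)

noncomputable def X1 : G2 := ⟨x1 0 1, Cfsg.Agent.Lib.Helper2.F4Out.x1_mem_fix 0 hq2 1⟩
noncomputable def Y1 : G2 := ⟨y1 0 1, Cfsg.Agent.Lib.Helper2.F4Out.y1_mem_fix 0 hq2 1⟩
noncomputable def X2 : G2 := ⟨x2 0 1 0, Cfsg.Agent.Lib.Helper2.F4Out.x2_mem_fix 0 hq2 1 0⟩
noncomputable def Y2 : G2 := ⟨y2 0 1 0, Cfsg.Agent.Lib.Helper2.F4Out.y2_mem_fix 0 hq2 1 0⟩

theorem ph_zero (t : ZMod 2) : ph 0 t = t := by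
  rw [ph_apply]; simp

theorem x1_zero : (x1 0 (0 : ZMod 2) : GL chevF4.Idx (ZMod 2)) = 1 := by
  have := Cfsg.Agent.Lib.Helper2.F4Out.x1_add (K := ZMod 2) 0 0 0
  rw [add_zero] at this
  exact (mul_eq_left.1 this.symm)

theorem x2_zero : (x2 0 (0 : ZMod 2) 0 : GL chevF4.Idx (ZMod 2)) = 1 := by
  have := Cfsg.Agent.Lib.Helper2.F4Out.x2_mul (K := ZMod 2) 0 hq2 0 0 0 0
  simp only [add_zero, zero_mul] at this
  exact (mul_eq_left.1 this)

theorem Y1_eq : Y1 = a8 0 hq2 * X1 * (a8 0 hq2)⁻¹ := by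
  apply Subtype.ext
  show y1 0 1 = n1 * x1 0 1 * (n1 : GL chevF4.Idx (ZMod 2))⁻¹
  rw [Cfsg.Agent.Lib.Helper2.F4Out.n1_conj_x1]

theorem Y2_eq : Y2 = b8 0 hq2 * X2 * (b8 0 hq2)⁻¹ := by
  apply Subtype.ext
  show y2 0 1 0 = n2 * x2 0 1 0 * (n2 : GL chevF4.Idx (ZMod 2))⁻¹
  rw [Cfsg.Agent.Lib.Helper2.F4Out.n2_conj_x2]

theorem X1_order : orderOf X1 = 2 := by
  apply orderOf_eq_prime
  · apply Subtype.ext
    show (x1 0 (1 : ZMod 2)) ^ 2 = 1
    rw [pow_two, ← Cfsg.Agent.Lib.Helper2.F4Out.x1_add]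
    have : (1 : ZMod 2) + 1 = 0 := by decide
    rw [this, x1_zero]
  · intro h
    have h0 : ((X1 : G2) : GL chevF4.Idx (ZMod 2)) = 1 := by
      rw [h]; exact Subgroup.coe_one _
    have h1 : x1 0 (1 : ZMod 2) = x1 0 0 := by
      rw [x1_zero]
      exact h0
    have := Cfsg.Agent.Lib.Helper2.F4Out.x1_injective (K := ZMod 2) 0 h1
    exact one_ne_zero this

theorem Y1_order : orderOf Y1 = 2 := by
  rw [Y1_eq]
  have := (MulAut.conj (a8 0 hq2)).orderOf_eq X1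
  rw [MulAut.conj_apply] at this
  rw [this, X1_order]

/-- the generators over `ZMod 2` -/
theorem gen_le : (fixG (K := ZMod 2) 0) ≤ Subgroup.closure
    {x1 0 (1 : ZMod 2), y1 0 1, x2 0 1 0, y2 0 1 0} := by
  rw [Cfsg.Agent.Lib.Helper4.F4Out.fixG_eq_closure 0 hK2, Subgroup.closure_le]
  set C := Subgroup.closure {x1 0 (1 : ZMod 2), y1 0 1, x2 0 1 0, y2 0 1 0} with hC
  have mX1 : x1 0 (1 : ZMod 2) ∈ C := Subgroup.subset_closure (by simp)
  have mY1 : y1 0 (1 : ZMod 2) ∈ C := Subgroup.subset_closure (by simp)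
  have mX2 : x2 0 (1 : ZMod 2) 0 ∈ C := Subgroup.subset_closure (by simp)
  have mY2 : y2 0 (1 : ZMod 2) 0 ∈ C := Subgroup.subset_closure (by simp)
  have c2 : ∀ t : ZMod 2, t = 0 ∨ t = 1 := by decide
  have e01 : x2 0 (0 : ZMod 2) 1 = x2 0 1 0 * x2 0 1 0 := by
    rw [Cfsg.Agent.Lib.Helper2.F4Out.x2_mul 0 hq2, ph_zero]
    have h : (1 : ZMod 2) + 1 = 0 := by decide
    rw [h]; simp
  have e11 : x2 0 (1 : ZMod 2) 1 = x2 0 1 0 * x2 0 0 1 := by
    rw [Cfsg.Agent.Lib.Helper2.F4Out.x2_mul 0 hq2, ph_zero]; simp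
  have y_of : ∀ t u : ZMod 2, y2 0 t u = n2 * x2 0 t u * (n2 : GL chevF4.Idx (ZMod 2))⁻¹ :=
    fun t u => (Cfsg.Agent.Lib.Helper2.F4Out.n2_conj_x2 0 t u).symm
  have m01 : x2 0 (0 : ZMod 2) 1 ∈ C := e01 ▸ mul_mem mX2 mX2
  have m11 : x2 0 (1 : ZMod 2) 1 ∈ C := e11 ▸ mul_mem mX2 m01
  have f01 : y2 0 (0 : ZMod 2) 1 = y2 0 1 0 * y2 0 1 0 := by
    rw [y_of, y_of, e01]; group
  have f11 : y2 0 (1 : ZMod 2) 1 = y2 0 1 0 * y2 0 0 1 := by
    rw [y_of, y_of, y_of, e11]; group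
  have n01 : y2 0 (0 : ZMod 2) 1 ∈ C := f01 ▸ mul_mem mY2 mY2
  have n11 : y2 0 (1 : ZMod 2) 1 ∈ C := f11 ▸ mul_mem mY2 n01
  have y1z : y1 0 (0 : ZMod 2) = 1 := by
    rw [← Cfsg.Agent.Lib.Helper2.F4Out.n1_conj_x1, x1_zero]; group
  have y2z : y2 0 (0 : ZMod 2) 0 = 1 := by
    rw [y_of, x2_zero]; group
  rintro g (⟨t, rfl | rfl⟩ | ⟨t, u, rfl | rfl⟩)
  · rcases c2 t with rfl | rfl
    · rw [x1_zero]; exact one_mem _
    · exact mX1
  · rcases c2 t with rfl | rfl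
    · rw [y1z]; exact one_mem _
    · exact mY1
  · rcases c2 t with rfl | rfl <;> rcases c2 u with rfl | rfl
    · rw [x2_zero]; exact one_mem _
    · exact m01
    · exact mX2
    · exact m11
  · rcases c2 t with rfl | rfl <;> rcases c2 u with rfl | rfl
    · rw [y2z]; exact one_mem _
    · exact n01
    · exact mY2
    · exact n11

theorem hgen : Subgroup.closure ({X1, Y1, X2, Y2} : Set G2) = ⊤ := by
  rw [eq_top_iff]
  intro g _
  have h1 : (g : GL chevF4.Idx (ZMod 2)) ∈ Subgroup.closure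
      {x1 0 (1 : ZMod 2), y1 0 1, x2 0 1 0, y2 0 1 0} := gen_le g.2
  have h2 : Subgroup.closure {x1 0 (1 : ZMod 2), y1 0 1, x2 0 1 0, y2 0 1 0}
      = (Subgroup.closure ({X1, Y1, X2, Y2} : Set G2)).map (fixG (K := ZMod 2) 0).subtype := by
    rw [MonoidHom.map_closure]
    congr 1
    ext z
    simp only [Set.image_insert_eq, Set.image_singleton]
    rfl
  rw [h2] at h1
  obtain ⟨g', hg', e⟩ := h1
  have : g' = g := Subtype.ext e
  rwa [← this]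

/-- two classes of involutions in the commutator subgroup of `²F₄(2)` -/
theorem ncard_tits_fix (hin : ∀ g : G2, orderOf g = 2 → g ∈ commutator G2) :
    (ConjClasses.mk '' {g : ↥(commutator G2) | orderOf g = 2}).ncard = 2 := by
  rw [Cfsg.Agent.Lib.Helper3.F4Inv.h3_tits_classes X1 Y1 X2 Y2 (b8 0 hq2) hgen X1_order Y1_order
    Y2_eq hin]
  · exact ncard_fixG 0 hq2
  · apply Cfsg.Agent.Lib.Helper3.F4Inv.h3_comm_of_reps X2 {a8 0 hq2, b8 0 hq2}
    · intro t ht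
      rcases invol_classes 0 hq2 t ht with h | h
      · exact ⟨_, by simp, h⟩
      · exact ⟨_, by simp, h⟩
    · rintro r (rfl | rfl)
      · exact Cfsg.Agent.Lib.Helper7.F4Inv.comm_a 0 hq2 (a8 0 hq2) X2 rfl rfl
      · exact Cfsg.Agent.Lib.Helper7.F4Inv.comm_b 0 hq2 (b8 0 hq2) X2 rfl rfl

/-- transport along an equality of subgroups -/
theorem ncard_tits_of_eq (H : Subgroup (GL chevF4.Idx (ZMod 2))) (hH : H = fixG (K := ZMod 2) 0)
    (hin : ∀ g : ↥H, orderOf g = 2 → g ∈ commutator ↥H) :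
    (ConjClasses.mk '' {g : ↥(commutator ↥H) | orderOf g = 2}).ncard = 2 := by
  subst hH
  exact ncard_tits_fix hin

/-- part 2 of S2184 -/
theorem ncard_tits (hin : ∀ g : ↥(twistedF4 (ZMod 2) 1), orderOf g = 2 →
      g ∈ commutator ↥(twistedF4 (ZMod 2) 1)) :
    (ConjClasses.mk '' {g : TitsGroup | orderOf g = 2}).ncard = 2 :=
  ncard_tits_of_eq (twistedF4 (ZMod 2) 1) (twisted_eq_fixG 0 hK2 hq2) hin

end tits

end Cfsg.Agent.Lib.Helper1.F4Inv
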